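import Groth.Agent.HomTan29.Points
import Groth.Prelude.Def_KLin
import Groth.Agent.OmegaUniv.Universal
import Groth.Agent.AModX.Res

/-!
Derivations along `f` are the maps `f^* Ω ⟶ O`.
-/

universe u

open CategoryTheory CategoryTheory.Limits AlgebraicGeometry TopologicalSpace Opposite IsLocalRing

set_option backward.isDefEq.respectTransparency false
set_option backward.isDefEq.respectTransparency.types false

noncomputable section

namespace Groth.Agent.HomTan29

open Groth.Agent.DefGlueLib Scheme ArtFun ArtFun.Art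

variable {k : Type u} [Field k] {X Y : Scheme.{u}} (y : Y ⟶ Art.specPt k) (f : X ⟶ Y) [QuasiSeparated y]

local notation "ad" => Scheme.Modules.pullbackPushforwardAdjunction f

/-- The derivation of a map out of the pulled back differentials. -/
def toFDer (β : (Scheme.Modules.pullback f).obj (Omega.sheaf y) ⟶ Coh.structureModule X) : FDer y f where
  D U := AddMonoidHom.mk' (fun a => OmegaSh.fnSect X _
      (((ad).homEquiv _ _ β).app U ((OmegaSh.dOmega y).app U a))) fun a b => by
    rw [map_add, map_add, map_add]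
  mul U a b := by
    show OmegaSh.fnSect X _ (((ad).homEquiv _ _ β).app U ((OmegaSh.dOmega y).app U (a * b))) = _
    rw [show (OmegaSh.dOmega y).app U (a * b) = a • (OmegaSh.dOmega y).app U b + b • (OmegaSh.dOmega y).app U a from
      (OmegaSh.dOmega y).d_mul (X := op U) a b, map_add, Scheme.Modules.Hom.app_smul, Scheme.Modules.Hom.app_smul]
    rfl
  res {U V} h a := by
    show OmegaSh.fnSect X _ (((ad).homEquiv _ _ β).app V ((OmegaSh.dOmega y).app V (rs h a))) = _
    rw [show (OmegaSh.dOmega y).app V (rs h a) = _ from (OmegaSh.dOmega y).d_map (homOfLE h).op a]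
    exact (congrArg (OmegaSh.fnSect X _) (AModX.app_res ((ad).homEquiv _ _ β) h _))
  const c := by
    show OmegaSh.fnSect X _ (((ad).homEquiv _ _ β).app ⊤ ((OmegaSh.dOmega y).app ⊤ (kst Y y ⊤ c))) = 0
    have h : (OmegaSh.dOmega y).app ⊤ (kst Y y ⊤ c) = 0 := by
      have e : kst Y y ⊤ c = y.app ⊤ ((Scheme.ΓSpecIso (CommRingCat.of k)).inv c) :=
        ConcreteCategory.congr_hom (y.appLE_eq_app (U := ⊤)) _
      rw [e]
      exact (OmegaSh.dOmega y).d_app (X := op ⊤) _
    rw [h, map_zero, map_zero]

theorem toFDer_apply (β : (Scheme.Modules.pullback f).obj (Omega.sheaf y) ⟶ Coh.structureModule X) (U : Y.Opens)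
    (a : Γ(Y, U)) : (toFDer y f β).D U a = OmegaSh.fnSect X _
      (β.app (f ⁻¹ᵁ U) (((ad).unit.app (Omega.sheaf y)).app U ((OmegaSh.dOmega y).app U a))) := by
  show OmegaSh.fnSect X _ (((ad).homEquiv _ _ β).app U ((OmegaSh.dOmega y).app U a)) = _
  rw [Adjunction.homEquiv_unit]
  rfl

theorem toFDer_add (β γ : (Scheme.Modules.pullback f).obj (Omega.sheaf y) ⟶ Coh.structureModule X) (U : Y.Opens)
    (a : Γ(Y, U)) : (toFDer y f (β + γ)).D U a = (toFDer y f β).D U a + (toFDer y f γ).D U a := by
  rw [toFDer_apply, toFDer_apply, toFDer_apply]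
  rfl

theorem toFDer_smul [X.Over (Spec (CommRingCat.of k))] (c : k)
    (β : (Scheme.Modules.pullback f).obj (Omega.sheaf y) ⟶ Coh.structureModule X) (U : Y.Opens) (a : Γ(Y, U)) :
    (toFDer y f (c • β)).D U a =
      rs le_top (Coh.toGlobal (X ↘ Spec (CommRingCat.of k)) c) * (toFDer y f β).D U a := by
  rw [toFDer_apply, toFDer_apply, KLin.smul_app_apply]
  rfl

theorem toFDer_injective : Function.Injective (toFDer y f) := by
  intro β γ h
  refine ((ad).homEquiv _ _).injective ?_
  obtain ⟨α, -, huniq⟩ := OmegaUniv.isUniversal_dOmega y _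
    ((OmegaSh.dOmega y).postcomp ((ad).homEquiv _ _ β).val)
  rw [huniq _ rfl, huniq ((ad).homEquiv _ _ γ) ?_]
  refine PresheafOfModules.Derivation.ext (funext fun W => AddMonoidHom.ext fun s => ?_)
  exact (congrFun (congrArg DFunLike.coe (congrFun (congrArg FDer.D h) W.unop)) s).symm

theorem toFDer_surjective : Function.Surjective (toFDer y f) := by
  intro D
  let d : OmegaSh.Der y ((Scheme.Modules.pushforward f).obj (Coh.structureModule X)) :=
    { d := fun {W} => AddMonoidHom.mk' (fun s => OmegaSh.strSect X _ (D.D W.unop s)) fun a b => by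
        rw [map_add, map_add]
      d_mul := fun {W} a b => by
        show OmegaSh.strSect X _ (D.D W.unop (a * b)) = _
        rw [D.mul]
        rfl
      d_map := fun {_ _} i s => congrArg (OmegaSh.strSect X _) (D.res i.unop.le s)
      d_app := fun {V} s => by
        by_cases hV : V.unop = ⊤
        · obtain ⟨V⟩ := V
          subst hV
          obtain ⟨c, rfl⟩ := (ConcreteCategory.bijective_of_isIso (Scheme.ΓSpecIso (CommRingCat.of k)).inv).2 s
          have e : kst Y y ⊤ c = y.app ⊤ ((Scheme.ΓSpecIso (CommRingCat.of k)).inv c) :=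
            ConcreteCategory.congr_hom (y.appLE_eq_app (U := ⊤)) _
          have := D.const c
          rw [e] at this
          exact congrArg (OmegaSh.strSect X _) this
        · have hb : V.unop = ⊥ := by
            refine Opens.ext (Set.eq_empty_iff_forall_notMem.2 fun q hq => hV ?_)
            exact top_le_iff.1 fun r _ => (Subsingleton.elim q r) ▸ hq
          have he : f ⁻¹ᵁ y ⁻¹ᵁ V.unop = ⊥ := by rw [hb]; rfl
          have : Subsingleton Γ(X, f ⁻¹ᵁ y ⁻¹ᵁ V.unop) :=
            CommRingCat.subsingleton_of_isTerminal (X.sheaf.isTerminalOfEqEmpty he)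
          exact congrArg (OmegaSh.strSect X _) (@Subsingleton.elim _ this _ 0) }
  obtain ⟨α, hα, -⟩ := OmegaUniv.isUniversal_dOmega y _ d
  refine ⟨((ad).homEquiv _ _).symm α, FDer.ext fun U a => ?_⟩
  show OmegaSh.fnSect X _ (((ad).homEquiv _ _ (((ad).homEquiv _ _).symm α)).app U ((OmegaSh.dOmega y).app U a)) = _
  rw [Equiv.apply_symm_apply]
  exact congrArg (OmegaSh.fnSect X _) (PresheafOfModules.Derivation.congr_d hα (X := op U) a)

end Groth.Agent.HomTan29
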