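import Groth.Prelude.Def_ArtFun6
import Groth.Agent.DefGlueLib.Sections
import Groth.Agent.DefGlueLib.Auto
import Groth.Agent.AffDefLib.Dual

/-!
Morphisms `X ×_k Spec A ⟶ Y` attached to families of derivations and square-zero elements of `A`.
-/

universe u

open CategoryTheory CategoryTheory.Limits AlgebraicGeometry TopologicalSpace Opposite IsLocalRing

set_option backward.isDefEq.respectTransparency false
set_option backward.isDefEq.respectTransparency.types false

noncomputable section

namespace Groth.Agent.HomTan29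

open Groth.Agent.DefGlueLib Scheme ArtFun ArtFun.Art

variable {k : Type u} [Field k] {X Y : Scheme.{u}} (x : X ⟶ Art.specPt k) (y : Y ⟶ Art.specPt k) (f : X ⟶ Y)

/-- The constants. -/
abbrev kst (Z : Scheme.{u}) (z : Z ⟶ Art.specPt k) (V : Z.Opens) : k →+* Γ(Z, V) :=
  ((Scheme.ΓSpecIso (CommRingCat.of k)).inv ≫ z.appLE ⊤ V le_top).hom

/-- Derivations of the functions of `Y` into those of `X`, along `f`. -/
structure FDer : Type u where
  /-- the maps -/
  D : ∀ U : Y.Opens, Γ(Y, U) →+ Γ(X, f ⁻¹ᵁ U)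
  mul : ∀ U a b, D U (a * b) = f.app U a * D U b + f.app U b * D U a
  res : ∀ {U V : Y.Opens} (h : V ≤ U) a, D V (rs h a) = rs (f.preimage_mono h) (D U a)
  const : ∀ c, D ⊤ (kst Y y ⊤ c) = 0

variable {y f}

@[ext]
theorem FDer.ext {D D' : FDer y f} (h : ∀ U a, D.D U a = D'.D U a) : D = D' := by
  obtain ⟨D, _, _, _⟩ := D
  obtain ⟨D', _, _, _⟩ := D'
  obtain rfl : D = D' := funext fun U => AddMonoidHom.ext (h U)
  rfl

variable (A : Art k k)

/-- An element of `A` as a function on an open. -/
def cc (V : (XA x A).Opens) : A →+* Γ(XA x A, V) :=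
  ((Scheme.ΓSpecIso (CommRingCat.of A.carrier)).inv ≫ (XApr x A).appLE ⊤ V le_top).hom

theorem rs_cc {V V' : (XA x A).Opens} (h : V' ≤ V) (e : A) : rs h (cc x A V e) = cc x A V' e :=
  ConcreteCategory.congr_hom (Scheme.Hom.appLE_map (XApr x A) (U := ⊤) le_top (homOfLE h).op) _

/-- Pulling functions back. -/
abbrev pf (W : X.Opens) : Γ(X, W) →+* Γ(XA x A, pullback.fst x (specOver A) ⁻¹ᵁ W) :=
  ((pullback.fst x (specOver A)).app W).hom

theorem rs_pf {W W' : X.Opens} (h : W' ≤ W) (v : Γ(X, W)) :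
    rs ((pullback.fst x (specOver A)).preimage_mono h) (pf x A W v) = pf x A W' (rs h v) :=
  (ConcreteCategory.congr_hom ((pullback.fst x (specOver A)).naturality (homOfLE h).op) v).symm

variable {r : ℕ} (e : Fin r → A) (D : Fin r → FDer y f)

/-- The value on a function. -/
def val (U : Y.Opens) (a : Γ(Y, U)) : Γ(XA x A, pullback.fst x (specOver A) ⁻¹ᵁ f ⁻¹ᵁ U) :=
  pf x A _ (f.app U a) + ∑ j, cc x A _ (e j) * pf x A _ ((D j).D U a)

theorem val_add (U : Y.Opens) (a b : Γ(Y, U)) : val x A e D U (a + b) = val x A e D U a + val x A e D U b := by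
  simp only [val, map_add, mul_add, Finset.sum_add_distrib]
  abel

theorem val_one (U : Y.Opens) : val x A e D U 1 = 1 := by
  have h : ∀ j, (D j).D U 1 = 0 := fun j => by
    have h2 := (D j).mul U 1 1
    rw [one_mul, map_one (f.app U).hom, one_mul] at h2
    simpa using h2
  simp only [val, map_one, h, map_zero, mul_zero, Finset.sum_const_zero, add_zero]

variable (he : ∀ i j, e i * e j = 0)

include he in
theorem val_mul (U : Y.Opens) (a b : Γ(Y, U)) : val x A e D U (a * b) = val x A e D U a * val x A e D U b := by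
  have h0 : ∀ p q : Fin r → Γ(XA x A, pullback.fst x (specOver A) ⁻¹ᵁ f ⁻¹ᵁ U),
      (∑ i, cc x A _ (e i) * p i) * (∑ j, cc x A _ (e j) * q j) = 0 := fun p q => by
    rw [Finset.sum_mul]
    refine Finset.sum_eq_zero fun i _ => ?_
    rw [Finset.mul_sum]
    refine Finset.sum_eq_zero fun j _ => ?_
    rw [mul_mul_mul_comm, ← map_mul, he, map_zero, zero_mul]
  simp only [val, (D _).mul, map_mul, map_add]
  rw [add_mul, mul_add, mul_add, h0, add_zero, Finset.mul_sum, Finset.sum_mul, add_assoc,
    ← Finset.sum_add_distrib]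
  refine congrArg _ (Finset.sum_congr rfl fun j _ => ?_)
  ring

theorem val_res {U V : Y.Opens} (h : V ≤ U) (a : Γ(Y, U)) :
    val x A e D V (rs h a) =
      rs ((pullback.fst x (specOver A)).preimage_mono (f.preimage_mono h)) (val x A e D U a) := by
  simp only [val, map_add, map_sum, map_mul, rs_cc, (D _).res h]
  refine congrArg₂ (· + ·) ?_ (Finset.sum_congr rfl fun j _ => congrArg _ (rs_pf x A (f.preimage_mono h) _).symm)
  refine (congrArg (pf x A _) ?_).trans (rs_pf x A (f.preimage_mono h) _).symm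
  exact ConcreteCategory.congr_hom (f.naturality (homOfLE h).op) a

/-- The ring map on sections. -/
def valHom (U : Y.Opens) : Γ(Y, U) →+* Γ(XA x A, pullback.fst x (specOver A) ⁻¹ᵁ f ⁻¹ᵁ U) where
  toFun := val x A e D U
  map_one' := val_one x A e D U
  map_mul' := val_mul x A e D he U
  map_zero' := by simp [val]
  map_add' := val_add x A e D U

/-- The morphism of presheafed spaces. -/
def psMor : (XA x A).toPresheafedSpace.Hom Y.toPresheafedSpace where
  base := (pullback.fst x (specOver A) ≫ f).base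
  c :=
    { app := fun U => CommRingCat.ofHom (valHom x A e D he U.unop)
      naturality := fun U V i => by
        ext a
        exact val_res x A e D i.unop.le a }

include he in
theorem isUnit_iff (U : Y.Opens) (z : XA x A) (hz : (pullback.fst x (specOver A) ≫ f) z ∈ U) (a : Γ(Y, U))
    (h : IsUnit ((XA x A).presheaf.germ _ z hz (val x A e D U a))) :
    IsUnit ((XA x A).presheaf.germ _ z hz (pf x A _ (f.app U a))) := by
  have h0 : IsNilpotent (∑ j, cc x A (pullback.fst x (specOver A) ⁻¹ᵁ f ⁻¹ᵁ U) (e j) * pf x A _ ((D j).D U a)) :=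
    isNilpotent_sum fun j _ => ⟨2, by rw [sq, mul_mul_mul_comm, ← map_mul, he, map_zero, zero_mul]⟩
  have h1 := h0.map ((XA x A).presheaf.germ _ z hz).hom
  have h2 := h1.neg.isUnit_add_left_of_commute h (Commute.all _ _)
  refine (congrArg IsUnit ?_).mp h2
  simp only [val, map_add]
  abel

/-- The morphism. -/
def mor : XA x A ⟶ Y :=
  ⟨⟨psMor x A e D he, fun z => ⟨fun g hg => by
    obtain ⟨U, hzU, a, rfl⟩ := Y.presheaf.exists_germ_eq g
    have h1 := ConcreteCategory.congr_hom (PresheafedSpace.stalkMap_germ (psMor x A e D he) U z hzU) a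
    have h2 : IsUnit ((XA x A).presheaf.germ _ z hzU (val x A e D U a)) := by
      refine h1 ▸ ?_
      exact hg
    have h3 := isUnit_iff x A e D he U z hzU a h2
    refine isUnit_of_map_unit ((pullback.fst x (specOver A) ≫ f).stalkMap z).hom _ ?_
    show IsUnit ((pullback.fst x (specOver A) ≫ f).stalkMap z (Y.presheaf.germ U _ hzU a))
    refine (congrArg IsUnit ?_).mpr h3
    exact (pullback.fst x (specOver A) ≫ f).germ_stalkMap_apply U z hzU a⟩⟩⟩

theorem mor_base : (mor x A e D he).base = (pullback.fst x (specOver A) ≫ f).base := rfl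

theorem mor_app (U : Y.Opens) (a : Γ(Y, U)) : (mor x A e D he).app U a = val x A e D U a := rfl

variable (hf : f ≫ y = x)

include hf in
theorem mor_over : mor x A e D he ≫ y = pullback.fst x (specOver A) ≫ x := by
  refine ext_of_isAffine ?_
  ext c
  obtain ⟨c, rfl⟩ := (ConcreteCategory.bijective_of_isIso (Scheme.ΓSpecIso (CommRingCat.of k)).inv).2 c
  show val x A e D (y ⁻¹ᵁ ⊤) (y.app ⊤ _) = _
  have h : ∀ j, (D j).D (y ⁻¹ᵁ ⊤) (y.app ⊤ ((Scheme.ΓSpecIso (CommRingCat.of k)).inv c)) = 0 := fun j => by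
    refine Eq.trans (congrArg ((D j).D ⊤) ?_) ((D j).const c)
    exact (ConcreteCategory.congr_hom (Scheme.Hom.app_eq_appLE (f := y) (U := ⊤)) _)
  simp only [val, h, map_zero, mul_zero, Finset.sum_const_zero, add_zero]
  show pf x A _ ((f ≫ y).app ⊤ _) = pf x A _ (x.app ⊤ _)
  rw [Scheme.Hom.congr_app hf]
  refine congrArg (pf x A ⊤) ?_
  show X.presheaf.map (𝟙 (op (⊤ : X.Opens))) (x.app ⊤ _) = x.app ⊤ _
  rw [X.presheaf.map_id]
  rfl

end Groth.Agent.HomTan29
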