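import Groth.Agent.HomTan29.Mor

/-!
Morphisms `X ×_k Spec k[ε] ⟶ Y` restricting to `f` are derivations along `f`.
-/

universe u

open CategoryTheory CategoryTheory.Limits AlgebraicGeometry TopologicalSpace Opposite IsLocalRing

set_option backward.isDefEq.respectTransparency false
set_option backward.isDefEq.respectTransparency.types false

noncomputable section

namespace Groth.Agent.HomTan29

open Groth.Agent.DefGlueLib Groth.Agent.AffDefLib Scheme ArtFun ArtFun.Art

variable {k : Type u} [Field k] {X Y : Scheme.{u}} {x : X ⟶ Art.specPt k} {y : Y ⟶ Art.specPt k} {f : X ⟶ Y}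

theorem eq_mor {A : Art k k} {r : ℕ} {e : Fin r → A} {D : Fin r → FDer y f} {he : ∀ i j, e i * e j = 0}
    (φ : XA x A ⟶ Y) (hb : ∀ z, φ z = f (pullback.fst x (specOver A) z))
    (h : ∀ (U : Y.Opens) (a : Γ(Y, U)) (hle : pullback.fst x (specOver A) ⁻¹ᵁ f ⁻¹ᵁ U ≤ φ ⁻¹ᵁ U),
      φ.appLE U (pullback.fst x (specOver A) ⁻¹ᵁ f ⁻¹ᵁ U) hle a = val x A e D U a) :
    φ = mor x A e D he := by
  have hbase : φ.base = (mor x A e D he).base := TopCat.hom_ext (ContinuousMap.ext hb)
  refine Scheme.Hom.ext hbase fun U => ?_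
  ext a
  have hle : pullback.fst x (specOver A) ⁻¹ᵁ f ⁻¹ᵁ U ≤ φ ⁻¹ᵁ U := fun z hz => by
    show φ z ∈ U
    rw [hb]; exact hz
  exact h U a hle

/-- Functoriality in the base. -/
theorem XAmap_mor {A B : Art k k} (g : A ⟶ B) {r : ℕ} (e : Fin r → A) (D : Fin r → FDer y f)
    (he : ∀ i j, e i * e j = 0) (e' : Fin r → B) (hg : ∀ j, g (e j) = e' j) (he' : ∀ i j, e' i * e' j = 0) :
    XAmap x g ≫ mor x A e D he = mor x B e' D he' := by
  refine eq_mor _ (fun z => ?_) fun U a hle => ?_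
  · show f (pullback.fst x (specOver A) (XAmap x g z)) = _
    exact congrArg f congr($(XAmap_fst x g) z)
  have hp : ∀ (W : X.Opens) (v : Γ(X, W))
      (hW : pullback.fst x (specOver B) ⁻¹ᵁ W ≤ XAmap x g ⁻¹ᵁ pullback.fst x (specOver A) ⁻¹ᵁ W),
      (XAmap x g).appLE _ _ hW (pf x A W v) = pf x B W v := by
    intro W v hW
    refine (ConcreteCategory.congr_hom (show (pullback.fst x (specOver A)).app W ≫ (XAmap x g).appLE _ _ hW =
      (XAmap x g ≫ pullback.fst x (specOver A)).appLE W _ hW from ?_) v).trans ?_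
    · simp only [Scheme.Hom.appLE, Scheme.Hom.comp_app, Category.assoc]
    · have : ∀ (ψ : XA x B ⟶ X) (hψ : ψ = pullback.fst x (specOver B)) (hW' : _ ≤ ψ ⁻¹ᵁ W),
          ψ.appLE W (pullback.fst x (specOver B) ⁻¹ᵁ W) hW' v = pf x B W v := by
        rintro _ rfl hW'
        rw [Scheme.Hom.appLE_eq_app]
      exact this _ (XAmap_fst x g) _
  show (XAmap x g ≫ mor x A e D he).appLE U _ hle a = _
  rw [show (XAmap x g ≫ mor x A e D he).appLE U _ hle =
    (mor x A e D he).app U ≫ (XAmap x g).appLE _ _ hle by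
      simp only [Scheme.Hom.appLE, Scheme.Hom.comp_app, Category.assoc]]
  show (XAmap x g).appLE _ _ _ (val x A e D U a) = _
  simp only [val, map_add, map_sum, map_mul]
  refine congrArg₂ (· + ·) (hp _ _ _) (Finset.sum_congr rfl fun j _ => congrArg₂ (· * ·) ?_ (hp _ _ _))
  rw [← hg j]
  have hq : ∀ (ψ : XA x B ⟶ spec A) (hψ : ψ = XAmap x g ≫ XApr x A)
      (V : (XA x B).Opens) (c : Γ(spec A, ⊤)),
      ψ.appLE ⊤ V le_top c = (XApr x B ≫ specMap g).appLE ⊤ V le_top c := by
    rintro _ rfl V c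
    have h2 : XAmap x g ≫ XApr x A = XApr x B ≫ specMap g := pullback.lift_snd _ _ _
    have h3 : ∀ (χ : XA x B ⟶ spec A), XAmap x g ≫ XApr x A = χ →
        (XAmap x g ≫ XApr x A).appLE ⊤ V le_top c = χ.appLE ⊤ V le_top c := by
      rintro _ rfl
      rfl
    exact h3 _ h2
  refine Eq.trans ?_ ((hq _ rfl _ ((Scheme.ΓSpecIso (CommRingCat.of A.carrier)).inv (e j))).trans ?_)
  · show (XAmap x g).appLE _ _ _ ((XApr x A).appLE ⊤ _ le_top _) = _
    exact ConcreteCategory.congr_hom (Scheme.Hom.appLE_comp_appLE (XAmap x g) (XApr x A) ⊤ _ _ le_top hle) _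
  · show (XApr x B ≫ specMap g).appLE ⊤ _ le_top _ = _
    rw [Scheme.Hom.comp_appLE]
    refine congrArg ((XApr x B).appLE _ _ le_top).hom ?_
    exact (ConcreteCategory.congr_hom (Scheme.ΓSpecIso_inv_naturality (CommRingCat.ofHom g.toAlgHom.toRingHom)) (e j)).symm

variable (k) in
/-- The family `(ε)`. -/
abbrev eps1 : Fin 1 → Art.dual k k := fun _ => deps

theorem eps1_mul (i j : Fin 1) : eps1 k i * eps1 k j = 0 := deps_mul_deps

variable (x) in
/-- The morphism of a derivation. -/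
def mor1 (D : FDer y f) : XA x (Art.dual k k) ⟶ Y := mor x (Art.dual k k) (eps1 k) (fun _ => D) eps1_mul

/-- Sections over affine pieces. -/
theorem isDef_piece (A : Art k k) (U : AffineZariskiSite X) :
    IsDef A (str x U) (cc x A (pullback.fst x (specOver A) ⁻¹ᵁ U.toOpens))
      ((XAincl x A).appLE (pullback.fst x (specOver A) ⁻¹ᵁ U.toOpens) U.toOpens (fun p hp => by
        show pullback.fst x (specOver A) (XAincl x A p) ∈ U.toOpens
        exact (congrArg (· ∈ U.toOpens) congr($(XAincl_fst x A) p)).mpr hp)).hom := by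
  exact isDef_sec (DefSch.trivial X x (flat_str x) A) U
    (V := pullback.fst x (specOver A) ⁻¹ᵁ U.toOpens) (Opens.ext (Set.ext fun p =>
      (congrArg (· ∈ U.toOpens) congr($(XAincl_fst x A) p)).to_iff))

theorem incl_le (A : Art k k) (W : X.Opens) : W ≤ XAincl x A ⁻¹ᵁ pullback.fst x (specOver A) ⁻¹ᵁ W := fun p hp => by
  show pullback.fst x (specOver A) (XAincl x A p) ∈ W
  exact (congrArg (· ∈ W) congr($(XAincl_fst x A) p)).mpr hp

theorem incl_pf (A : Art k k) (W : X.Opens) (v : Γ(X, W)) :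
    (XAincl x A).appLE _ W (incl_le A W) (pf x A W v) = v := by
  have : ∀ (ψ : X ⟶ X) (hψ : ψ = 𝟙 X) (hW : W ≤ ψ ⁻¹ᵁ W), ψ.appLE W W hW v = v := by
    rintro _ rfl hW
    rw [Scheme.Hom.appLE, ← Category.comp_id ((𝟙 X : X ⟶ X).app W)]
    simp
    show X.presheaf.map (𝟙 (op W)) v = v
    rw [X.presheaf.map_id]
    rfl
  refine (ConcreteCategory.congr_hom (show (pullback.fst x (specOver A)).app W ≫ (XAincl x A).appLE _ W (incl_le A W) =
    (XAincl x A ≫ pullback.fst x (specOver A)).appLE W W (incl_le A W) from ?_) v).trans (this _ (XAincl_fst x A) _)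
  simp only [Scheme.Hom.appLE, Scheme.Hom.comp_app, Category.assoc]

theorem incl_rs (A : Art k k) {W W' : X.Opens} (h : W' ≤ W)
    (z : Γ(XA x A, pullback.fst x (specOver A) ⁻¹ᵁ W)) :
    (XAincl x A).appLE _ W' (incl_le A W') (rs ((pullback.fst x (specOver A)).preimage_mono h) z) =
      rs h ((XAincl x A).appLE _ W (incl_le A W) z) :=
  (ConcreteCategory.congr_hom (Scheme.Hom.map_appLE (XAincl x A) (incl_le A W')
    (homOfLE ((pullback.fst x (specOver A)).preimage_mono h)).op) z).trans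
    (ConcreteCategory.congr_hom (Scheme.Hom.appLE_map (XAincl x A) (incl_le A W) (homOfLE h).op) z).symm

variable (k) in
/-- The coefficient of `ε`. -/
def sndL : Art.dual k k →ₗ[k] k where
  toFun z := TrivSqZeroExt.snd (show DualNumber k from z)
  map_add' _ _ := rfl
  map_smul' _ _ := rfl

theorem sndL_deps : sndL k deps = 1 := TrivSqZeroExt.snd_inr k 1

theorem isFun_snd : IsFun (C := Art.dual k k) (Ideal.span {deps}) (sndL k) := by
  intro m hm z hz
  rw [dual_maximalIdeal, Ideal.mem_span_singleton'] at hm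
  obtain ⟨m, rfl⟩ := hm
  obtain ⟨z, rfl⟩ := Ideal.mem_span_singleton'.1 hz
  rw [mul_mul_mul_comm, deps_mul_deps, mul_zero, map_zero]

/-- The multiple of `ε` by a function. -/
def epsPf (W : X.Opens) (v : Γ(X, W)) : Γ(XA x (Art.dual k k), pullback.fst x (specOver (Art.dual k k)) ⁻¹ᵁ W) :=
  cc x (Art.dual k k) _ deps * pf x (Art.dual k k) W v

theorem rs_epsPf {W W' : X.Opens} (h : W' ≤ W) (v : Γ(X, W)) :
    rs ((pullback.fst x (specOver (Art.dual k k))).preimage_mono h) (epsPf W v) = epsPf W' (rs h v) := by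
  rw [epsPf, map_mul, rs_cc, rs_pf]; rfl

theorem epsPf_injective {W : X.Opens} {v v' : Γ(X, W)} (h : epsPf (x := x) W v = epsPf W v') : v = v' := by
  refine DefGlueLib.eq_of_locally fun p hp => ?_
  obtain ⟨U, hpU, hU⟩ := DefGlueLib.exists_site_le hp
  refine ⟨U.toOpens, hU, hpU, ?_⟩
  have h1 := congrArg (rs ((pullback.fst x (specOver (Art.dual k k))).preimage_mono hU)) h
  rw [rs_epsPf hU, rs_epsPf hU] at h1
  have key : ∀ w, pair (isDef_piece (x := x) (Art.dual k k) U) isFun_snd (epsPf U.toOpens w) = w := fun w => by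
    refine (pair_gen _ isFun_snd (Ideal.mem_span_singleton_self _) _).trans ?_
    rw [sndL_deps, map_one, one_mul]
    exact incl_pf _ _ w
  rw [← key (rs hU v), ← key (rs hU v'), h1]

theorem exists_epsPf {W : X.Opens} (z : Γ(XA x (Art.dual k k), pullback.fst x (specOver (Art.dual k k)) ⁻¹ᵁ W))
    (hz : (XAincl x (Art.dual k k)).appLE _ W (incl_le _ W) z = 0) : ∃ v, epsPf W v = z := by
  classical
  let P := pullback.fst x (specOver (Art.dual k k))
  have loc : ∀ U : {U : AffineZariskiSite X // U.toOpens ≤ W}, ∃ v, epsPf U.1.toOpens v = rs (P.preimage_mono U.2) z := by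
    rintro ⟨U, hU⟩
    have hd := isDef_piece (x := x) (Art.dual k k) U
    have hq : (XAincl x (Art.dual k k)).appLE _ U.toOpens (incl_le _ U.toOpens) (rs (P.preimage_mono hU) z) = 0 := by
      rw [incl_rs _ hU, hz, map_zero]
    have hmem := hd.ker_le hq
    rw [dual_maximalIdeal, Ideal.map_span, Set.image_singleton, Ideal.mem_span_singleton'] at hmem
    obtain ⟨s, hs⟩ := hmem
    let v := (XAincl x (Art.dual k k)).appLE _ U.toOpens (incl_le _ U.toOpens) s
    refine ⟨v, ?_⟩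
    rw [← hs, mul_comm s, epsPf]
    have h2 := hd.ker_le (show s - pf x _ _ v ∈ RingHom.ker _ by
      rw [RingHom.mem_ker]
      refine (map_sub _ s _).trans (sub_eq_zero.2 ?_)
      exact (incl_pf _ _ v).symm)
    rw [dual_maximalIdeal, Ideal.map_span, Set.image_singleton, Ideal.mem_span_singleton'] at h2
    obtain ⟨t, ht⟩ := h2
    rw [← sub_eq_zero, ← mul_sub, ← neg_sub s, ← ht, mul_neg, mul_left_comm, ← map_mul, deps_mul_deps, map_zero,
      mul_zero, neg_zero]
  choose v hv using loc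
  obtain ⟨g, hg, -⟩ := TopCat.Sheaf.existsUnique_gluing' X.sheaf
    (fun U : {U : AffineZariskiSite X // U.toOpens ≤ W} => U.1.toOpens) W (fun U => homOfLE U.2)
    (fun p hp => by
      obtain ⟨U, hpU, hU⟩ := DefGlueLib.exists_site_le hp
      exact Opens.mem_iSup.2 ⟨⟨U, hU⟩, hpU⟩) v
    (fun U V => epsPf_injective (x := x) (by
      show epsPf _ (rs inf_le_left (v U)) = epsPf _ (rs inf_le_right (v V))
      rw [← rs_epsPf inf_le_left, hv, ← rs_epsPf inf_le_right, hv, rs_rs, rs_rs]))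
  refine ⟨g, TopCat.Sheaf.eq_of_locally_eq' (XA x (Art.dual k k)).sheaf
    (fun U : {U : AffineZariskiSite X // U.toOpens ≤ W} => P ⁻¹ᵁ U.1.toOpens) _
    (fun U => homOfLE (P.preimage_mono U.2)) (fun p hp => ?_) _ _ fun U => ?_⟩
  · obtain ⟨U, hpU, hU⟩ := DefGlueLib.exists_site_le (show P p ∈ W from hp)
    exact Opens.mem_iSup.2 ⟨⟨U, hU⟩, hpU⟩
  · show rs (P.preimage_mono U.2) (epsPf W g) = rs (P.preimage_mono U.2) z
    rw [rs_epsPf U.2, ← hv U]
    exact congrArg _ (hg U)

theorem mor1_injective {D D' : FDer y f} (h : mor1 x D = mor1 x D') : D = D' := by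
  refine FDer.ext fun U a => epsPf_injective (x := x) ?_
  have h1 : ∀ (φ : XA x (Art.dual k k) ⟶ Y), φ = mor1 x D → ∀ hle,
      φ.appLE U (pullback.fst x (specOver (Art.dual k k)) ⁻¹ᵁ f ⁻¹ᵁ U) hle a = val x _ (eps1 k) (fun _ => D) U a := by
    rintro _ rfl hle
    exact ConcreteCategory.congr_hom ((mor1 x D).appLE_eq_app (U := U)) a
  have h2 := h1 (mor1 x D') h.symm le_rfl
  replace h2 := (ConcreteCategory.congr_hom ((mor1 x D').appLE_eq_app (U := U)) a).symm.trans h2
  change val x _ (eps1 k) (fun _ => D') U a = _ at h2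
  simp only [val, Fin.sum_univ_one] at h2
  exact (add_left_cancel h2).symm

theorem mor1_surjective (hf : f ≫ y = x) (φ : XA x (Art.dual k k) ⟶ Y)
    (hy : φ ≫ y = pullback.fst x (specOver (Art.dual k k)) ≫ x) (hi : XAincl x (Art.dual k k) ≫ φ = f) :
    ∃ D : FDer y f, mor1 x D = φ := by
  let A : Art k k := Art.dual k k
  let P := pullback.fst x (specOver A)
  have hb : ∀ z, φ z = f (P z) := by
    intro z
    haveI : Surjective (XAincl x A) := DefGlueLib.surjective_i (DefSch.trivial X x (flat_str x) A)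
    obtain ⟨p, rfl⟩ := (XAincl x A).surjective z
    exact congr($hi p).trans (congrArg f congr($(XAincl_fst x A) p)).symm
  have hle : ∀ U : Y.Opens, P ⁻¹ᵁ f ⁻¹ᵁ U ≤ φ ⁻¹ᵁ U := fun U z hz => by
    show φ z ∈ U
    rw [hb]; exact hz
  let δ := fun (U : Y.Opens) (a : Γ(Y, U)) => φ.appLE U _ (hle U) a - pf x A _ (f.app U a)
  have hδ : ∀ U a, (XAincl x A).appLE _ (f ⁻¹ᵁ U) (incl_le A _) (δ U a) = 0 := by
    intro U a
    refine (map_sub _ _ _).trans (sub_eq_zero.2 (Eq.trans ?_ (incl_pf A _ _).symm))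
    refine (ConcreteCategory.congr_hom (Scheme.Hom.appLE_comp_appLE (XAincl x A) φ U _ _ (hle U) (incl_le A _)) a).trans ?_
    have : ∀ (ψ : X ⟶ Y) (hψ : ψ = f) (h : f ⁻¹ᵁ U ≤ ψ ⁻¹ᵁ U), ψ.appLE U (f ⁻¹ᵁ U) h a = f.app U a := by
      rintro _ rfl h
      rw [Scheme.Hom.appLE_eq_app]
    exact this _ hi _
  choose d hd using fun U a => exists_epsPf (δ U a) (hδ U a)
  have e0 : ∀ (V : (XA x A).Opens), cc x A V deps * cc x A V deps = 0 := fun V => by
    rw [← map_mul, deps_mul_deps, map_zero]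
  have eadd : ∀ (W : X.Opens) v v', epsPf (x := x) W (v + v') = epsPf W v + epsPf W v' := fun W v v' => by
    rw [epsPf, map_add, mul_add]; rfl
  refine ⟨{ D := fun U => AddMonoidHom.mk' (d U) fun a b => epsPf_injective (x := x) ?_
            mul := fun U a b => epsPf_injective (x := x) ?_
            res := fun {U V} h a => epsPf_injective (x := x) ?_
            const := fun c => epsPf_injective (x := x) ?_ }, (eq_mor φ hb fun U a h => ?_).symm⟩
  · rw [eadd, hd, hd, hd]
    simp only [δ, map_add]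
    abel
  · show epsPf _ (d U (a * b)) = epsPf _ (f.app U a * d U b + f.app U b * d U a)
    have h2 : epsPf (x := x) _ (d U a) * epsPf _ (d U b) = 0 := by
      simp only [epsPf]
      rw [mul_mul_mul_comm, e0, zero_mul]
    rw [eadd, hd, show epsPf (x := x) (f ⁻¹ᵁ U) (f.app U a * d U b) = pf x A _ (f.app U a) * epsPf _ (d U b) by
      rw [epsPf, map_mul]; exact mul_left_comm _ _ _,
      show epsPf (x := x) (f ⁻¹ᵁ U) (f.app U b * d U a) = pf x A _ (f.app U b) * epsPf _ (d U a) by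
      rw [epsPf, map_mul]; exact mul_left_comm _ _ _]
    rw [hd, hd] at h2 ⊢
    simp only [δ, map_mul] at h2 ⊢
    linear_combination h2
  · show epsPf _ (d V (rs h a)) = epsPf _ (rs (f.preimage_mono h) (d U a))
    rw [← rs_epsPf (f.preimage_mono h), hd, hd]
    simp only [δ, map_sub]
    refine congrArg₂ (· - ·) ?_ ?_
    · exact (ConcreteCategory.congr_hom (Scheme.Hom.map_appLE φ (hle V) (homOfLE h).op) a).trans
        (ConcreteCategory.congr_hom (Scheme.Hom.appLE_map φ (hle U)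
          (homOfLE (P.preimage_mono (f.preimage_mono h))).op) a).symm
    · exact (congrArg (pf x A _) (ConcreteCategory.congr_hom (f.naturality (homOfLE h).op) a)).trans
        (rs_pf x A _ _).symm
  · show epsPf _ (d ⊤ (kst Y y ⊤ c)) = epsPf _ 0
    rw [hd, show epsPf (x := x) (f ⁻¹ᵁ (⊤ : Y.Opens)) 0 = 0 by rw [epsPf, map_zero, mul_zero], sub_eq_zero]
    show φ.appLE ⊤ _ _ (y.appLE ⊤ ⊤ le_top ((Scheme.ΓSpecIso (CommRingCat.of k)).inv c)) =
      pf x A ⊤ (f.app ⊤ (y.appLE ⊤ ⊤ le_top ((Scheme.ΓSpecIso (CommRingCat.of k)).inv c)))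
    have key : ∀ (ψ ψ' : XA x A ⟶ Art.specPt k), ψ = ψ' → ∀ c, ψ.appLE ⊤ ⊤ le_top c = ψ'.appLE ⊤ ⊤ le_top c := by
      rintro _ _ rfl c; rfl
    have hk := key _ _ (hy.trans (congrArg (P ≫ ·) hf.symm)) ((Scheme.ΓSpecIso (CommRingCat.of k)).inv c)
    rw [← Scheme.Hom.appLE_comp_appLE φ y ⊤ ⊤ ⊤ le_top le_top, ← Category.assoc,
      ← Scheme.Hom.appLE_comp_appLE (P ≫ f) y ⊤ ⊤ ⊤ le_top le_top] at hk
    refine hk.trans ?_
    show (P ≫ f).appLE ⊤ ⊤ le_top _ = _
    refine (ConcreteCategory.congr_hom ((P ≫ f).appLE_eq_app (U := ⊤)) _).trans ?_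
    rfl
  · show φ.appLE U _ h a = _
    simp only [val, Fin.sum_univ_one]
    refine sub_eq_iff_eq_add'.1 ?_
    exact (hd U a).symm

end Groth.Agent.HomTan29
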