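import Groth.Agent.HomTan29.Deriv
import Groth.Agent.ArtFunLib.HilbLink
import Groth.Agent.NormalLib.H0

/-!
The tangent space of a scheme of morphisms at a rational point.
-/

universe u

open CategoryTheory CategoryTheory.Limits AlgebraicGeometry TopologicalSpace Opposite IsLocalRing MonoidalCategory
  CartesianMonoidalCategory

set_option backward.isDefEq.respectTransparency false
set_option backward.isDefEq.respectTransparency.types false

noncomputable section

namespace Groth.Agent.HomTan29

open Groth.Agent.DefGlueLib Groth.Agent.AffDefLib Scheme ArtFun ArtFun.Art Groth.Agent.ArtFunLib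

theorem ker_res {k : Type u} [Field k] {R : Type u} [CommRing R] [IsLocalRing R] [Algebra k R] (res : R →ₐ[k] k) :
    RingHom.ker res = maximalIdeal R :=
  IsLocalRing.eq_maximalIdeal (RingHom.ker_isMaximal_of_surjective res.toRingHom
    fun c => ⟨algebraMap k R c, res.commutes c⟩)

section Dual2

variable {k : Type u} [Field k]

variable (k) in
/-- The square-zero basis of `k[ε₁, ε₂]`. -/
def eps2 : Fin 2 → Art.dual2 k k :=
  ![(TrivSqZeroExt.inr ((1 : k), (0 : k)) : TrivSqZeroExt k (k × k)),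
    (TrivSqZeroExt.inr ((0 : k), (1 : k)) : TrivSqZeroExt k (k × k))]

theorem eps2_mul (i j : Fin 2) : eps2 k i * eps2 k j = 0 := by
  fin_cases i <;> fin_cases j <;> exact TrivSqZeroExt.inr_mul_inr k _ _

theorem pr_eps2 :
    Art.pr₁ (eps2 k 0) = (deps : Art.dual k k) ∧ Art.pr₁ (eps2 k 1) = (0 : Art.dual k k) ∧
    Art.pr₂ (eps2 k 0) = (0 : Art.dual k k) ∧ Art.pr₂ (eps2 k 1) = (deps : Art.dual k k) ∧
    Art.plus (eps2 k 0) = (deps : Art.dual k k) ∧ Art.plus (eps2 k 1) = (deps : Art.dual k k) :=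
  ⟨TrivSqZeroExt.ext rfl rfl, TrivSqZeroExt.ext rfl rfl, TrivSqZeroExt.ext rfl rfl, TrivSqZeroExt.ext rfl rfl,
    TrivSqZeroExt.ext rfl (add_zero (1 : k)), TrivSqZeroExt.ext rfl (zero_add (1 : k))⟩

end Dual2

variable {k : Type u} [Field k] {X Y : Scheme.{u}} {x : X ⟶ Art.specPt k} {y : Y ⟶ Art.specPt k} {f : X ⟶ Y}

theorem mor_congr {A : Art k k} {r r' : ℕ} {e : Fin r → A} {D : Fin r → FDer y f} {he : ∀ i j, e i * e j = 0}
    {e' : Fin r' → A} {D' : Fin r' → FDer y f} {he' : ∀ i j, e' i * e' j = 0}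
    (h : ∀ U a, val x A e D U a = val x A e' D' U a) : mor x A e D he = mor x A e' D' he' :=
  eq_mor _ (fun _ => rfl) fun U a hle => by
    rw [← h]
    exact ConcreteCategory.congr_hom ((mor x A e D he).appLE_eq_app (U := U)) a

theorem cc_algebraMap (A : Art k k) (W : X.Opens) (c : k) :
    cc x A (pullback.fst x (specOver A) ⁻¹ᵁ W) (algebraMap k A c) = pf x A W (kst X x W c) := by
  have h : ∀ (ψ ψ' : XA x A ⟶ Art.specPt k), ψ = ψ' → ∀ V c, ψ.appLE ⊤ V le_top c = ψ'.appLE ⊤ V le_top c := by
    rintro _ _ rfl V c; rfl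
  have h1 := h _ _ (pullback.condition : pullback.fst x (specOver A) ≫ x = XApr x A ≫ specOver A)
    (pullback.fst x (specOver A) ⁻¹ᵁ W) ((Scheme.ΓSpecIso (CommRingCat.of k)).inv c)
  show (XApr x A).appLE ⊤ _ le_top ((Scheme.ΓSpecIso (CommRingCat.of A.carrier)).inv (algebraMap k A c)) =
    (pullback.fst x (specOver A)).app W (x.appLE ⊤ W le_top ((Scheme.ΓSpecIso (CommRingCat.of k)).inv c))
  refine Eq.trans ?_ (h1.symm.trans ?_)
  · rw [Scheme.Hom.comp_appLE]
    refine congrArg ((XApr x A).appLE _ _ le_top).hom ?_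
    exact ConcreteCategory.congr_hom (Scheme.ΓSpecIso_inv_naturality
      (CommRingCat.ofHom (ofBase A).toAlgHom.toRingHom)) c
  · refine (ConcreteCategory.congr_hom (Scheme.Hom.appLE_comp_appLE (pullback.fst x (specOver A)) x ⊤ W _ le_top le_rfl) _).symm.trans ?_
    exact ConcreteCategory.congr_hom ((pullback.fst x (specOver A)).appLE_eq_app (U := W)) _

theorem incl_mor (A : Art k k) {r : ℕ} (e : Fin r → A) (D : Fin r → FDer y f) (he : ∀ i j, e i * e j = 0) :
    XAincl x A ≫ mor x A e D he = f := by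
  have hb : ∀ p : X, (XAincl x A ≫ mor x A e D he) p = f p := fun p => congrArg f congr($(XAincl_fst x A) p)
  refine Scheme.Hom.ext (TopCat.hom_ext (ContinuousMap.ext hb)) fun U => ?_
  ext a
  show (XAincl x A).appLE _ (f ⁻¹ᵁ U) (incl_le A _) (val x A e D U a) = f.app U a
  simp only [val, map_add, map_sum, map_mul, incl_pf]
  refine add_eq_left.2 (Finset.sum_eq_zero fun j _ => ?_)
  have hres : ∀ z : A, (XAincl x A).appLE _ (f ⁻¹ᵁ U) (incl_le A _) (cc x A _ z) = kst X x (f ⁻¹ᵁ U) (A.res z) := by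
    intro z
    refine (ConcreteCategory.congr_hom (Scheme.Hom.appLE_comp_appLE (XAincl x A) (XApr x A) ⊤ _ _ le_top
      (incl_le A (f ⁻¹ᵁ U))) _).trans ?_
    have h : ∀ (ψ ψ' : X ⟶ spec A), ψ = ψ' → ∀ c, ψ.appLE ⊤ (f ⁻¹ᵁ U) le_top c = ψ'.appLE ⊤ _ le_top c := by
      rintro _ _ rfl c; rfl
    refine (h _ _ (XAincl_snd x A) _).trans ?_
    rw [Scheme.Hom.comp_appLE]
    refine congrArg (x.appLE ⊤ _ le_top).hom ?_
    exact (ConcreteCategory.congr_hom (Scheme.ΓSpecIso_inv_naturality (CommRingCat.ofHom A.res.toRingHom)) z).symm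
  have h0 : A.res (e j) = 0 := by
    have h1 := congrArg A.res (he j j)
    rw [map_mul, map_zero] at h1
    exact mul_self_eq_zero.1 h1
  rw [hres, h0, map_zero, zero_mul]

section Classify

variable (M : Over (Art.specPt k)) (υ : Over.mk x ⊗ M ⟶ Over.mk y)
  (hM : ∀ (T : Over (Art.specPt k)) (φ : Over.mk x ⊗ T ⟶ Over.mk y), ∃! a : T ⟶ M, (Over.mk x ◁ a) ≫ υ = φ)
  (hf : f ≫ y = x) (af : HilbLink.pt (k := k) ⟶ M)
  (haf : (Over.mk x ◁ af) ≫ υ = (ρ_ (Over.mk x)).hom ≫ (Over.homMk f hf : Over.mk x ⟶ Over.mk y))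

theorem whiskerLeft_resPt (A : Art k k) :
    (Over.mk x ◁ HilbLink.resPt A).left = pullback.fst x (𝟙 (Art.specPt k)) ≫ XAincl x A := by
  refine pullback.hom_ext ?_ ?_
  · refine (Over.whiskerLeft_left_fst _).trans ?_
    rw [Category.assoc]
    exact ((congrArg (_ ≫ ·) (XAincl_fst x A)).trans (Category.comp_id _)).symm
  · refine (Over.whiskerLeft_left_snd _).trans ?_
    show pullback.snd x (𝟙 (Art.specPt k)) ≫ specRes A = (_ ≫ XAincl x A) ≫ XApr x A
    rw [Category.assoc, XAincl_snd, ← Category.assoc]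
    congr 1
    exact ((Category.comp_id _).symm.trans pullback.condition.symm)

include hM haf in
/-- The classifying map of a deformation of `f`. -/
theorem exists_hom {A : Art k k} (φ : XA x A ⟶ Y) (hy : φ ≫ y = pullback.fst x (specOver A) ≫ x)
    (hi : XAincl x A ≫ φ = f) :
    letI := HilbLink.alg M af
    ∃ ψ : HomSet (HilbLink.R₀ M af) (HilbLink.res M af) A,
      (Over.mk x ◁ HilbLink.toH M af ψ).left ≫ υ.left = φ := by
  letI := HilbLink.alg M af
  obtain ⟨g, hg, -⟩ := hM (HilbLink.T A) (Over.homMk φ hy)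
  have hg' : HilbLink.resPt A ≫ g = af := by
    refine (hM _ _).unique ?_ haf
    rw [MonoidalCategory.whiskerLeft_comp, Category.assoc, hg]
    refine Over.OverMorphism.ext ?_
    show (Over.mk x ◁ HilbLink.resPt A).left ≫ φ = pullback.fst x (𝟙 (Art.specPt k)) ≫ f
    rw [whiskerLeft_resPt, Category.assoc, hi]
  obtain ⟨φ', hφ⟩ := HilbLink.exists_hom M af g hg'
  have hres' : φ' ≫ CommRingCat.ofHom A.res.toRingHom = HilbLink.ρ M af := by
    apply Spec.map_injective
    rw [Spec.map_comp, ← cancel_mono (M.left.fromSpecStalk (HilbLink.p₀ M af)), HilbLink.map_ρ, Category.assoc, hφ]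
    exact congrArg (fun g : HilbLink.pt (k := k) ⟶ M => g.left) hg'
  have hα : HilbLink.α M af ≫ φ' = CommRingCat.ofHom (algebraMap k A.carrier) := by
    apply Spec.map_injective
    rw [Spec.map_comp, HilbLink.map_α, ← Category.assoc, hφ]
    exact Over.w g
  let aφ : HilbLink.R₀ M af →ₐ[k] A := { φ'.hom with commutes' := fun c => congr($hα c) }
  have hφr : A.res.comp aφ = HilbLink.res M af := AlgHom.ext fun r => congr($hres' r)
  have e : HilbLink.toH M af ⟨aφ, hφr⟩ = g := by
    refine Over.OverMorphism.ext ?_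
    rw [HilbLink.toH_left]
    exact hφ
  refine ⟨⟨aφ, hφr⟩, ?_⟩
  rw [e]
  exact congrArg Over.Hom.left hg

include hM in
theorem hom_unique {A : Art k k}
    (ψ ψ' : letI := HilbLink.alg M af; HomSet (HilbLink.R₀ M af) (HilbLink.res M af) A)
    (h : (Over.mk x ◁ HilbLink.toH M af ψ).left ≫ υ.left = (Over.mk x ◁ HilbLink.toH M af ψ').left ≫ υ.left) :
    ψ = ψ' := by
  letI := HilbLink.alg M af
  have e : HilbLink.toH M af ψ = HilbLink.toH M af ψ' :=
    (hM _ ((Over.mk x ◁ HilbLink.toH M af ψ') ≫ υ)).unique (Over.OverMorphism.ext h) rfl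
  have e1 := congrArg Over.Hom.left e
  rw [HilbLink.toH_left, HilbLink.toH_left, cancel_mono] at e1
  exact Subtype.ext (AlgHom.coe_ringHom_injective (congrArg CommRingCat.Hom.hom (Spec.map_injective e1)))

theorem map_hom {A B : Art k k} (g : A ⟶ B)
    (ψ : letI := HilbLink.alg M af; HomSet (HilbLink.R₀ M af) (HilbLink.res M af) A) :
    (Over.mk x ◁ HilbLink.toH M af (letI := HilbLink.alg M af; HomSet.map g ψ)).left ≫ υ.left =
      XAmap x g ≫ (Over.mk x ◁ HilbLink.toH M af ψ).left ≫ υ.left := by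
  rw [HilbLink.toH_natural, MonoidalCategory.whiskerLeft_comp, Over.comp_left, Category.assoc]
  refine congrArg (· ≫ (Over.mk x ◁ HilbLink.toH M af ψ).left ≫ υ.left) ?_
  rw [Over.whiskerLeft_left]
  rfl

include hM haf in
/-- The tangent space is dual to the derivations. -/
theorem exists_equiv :
    letI := HilbLink.alg M af
    ∃ E : FDer y f → Module.Dual k (CotangentSpace (HilbLink.R₀ M af)),
      Function.Bijective E ∧
      (∀ D D' D'' : FDer y f, (∀ U a, D''.D U a = D.D U a + D'.D U a) → E D'' = E D + E D') ∧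
      ∀ (c : k) (D D' : FDer y f), (∀ U a, D'.D U a = kst X x (f ⁻¹ᵁ U) c * D.D U a) → E D' = c • E D := by
  letI := HilbLink.alg M af
  have ex : ∀ D : FDer y f, ∃ ψ : HomSet (HilbLink.R₀ M af) (HilbLink.res M af) (Art.dual k k),
      (Over.mk x ◁ HilbLink.toH M af ψ).left ≫ υ.left = mor1 x D := fun D =>
    exists_hom M υ hM hf af haf _ (mor_over x _ _ _ eps1_mul hf) (incl_mor _ _ _ eps1_mul)
  choose ψ hψ using ex
  have hker := ker_res (HilbLink.res M af)
  let π : ↥(maximalIdeal (HilbLink.R₀ M af)) →ₗ[k] CotangentSpace (HilbLink.R₀ M af) :=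
    (maximalIdeal (HilbLink.R₀ M af)).toCotangent.restrictScalars k
  have hπ : Function.Surjective π := Ideal.toCotangent_surjective _
  have hfst : ∀ (φ : HomSet (HilbLink.R₀ M af) (HilbLink.res M af) (Art.dual k k)),
      ∀ z ∈ maximalIdeal (HilbLink.R₀ M af), TrivSqZeroExt.fst (show DualNumber k from φ.1 z) = 0 := fun φ z hz =>
    (DFunLike.congr_fun φ.2 z).trans (RingHom.mem_ker.1 (hker.symm ▸ hz))
  have hl : ∀ (φ : HomSet (HilbLink.R₀ M af) (HilbLink.res M af) (Art.dual k k)),
      ∃ l : Module.Dual k (CotangentSpace (HilbLink.R₀ M af)), ∀ z, l (π z) = sndL k (φ.1 z.1) := fun φ => by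
    let l₀ : ↥(maximalIdeal (HilbLink.R₀ M af)) →ₗ[k] k :=
      { toFun := fun z => sndL k (φ.1 z.1)
        map_add' := fun z z' => by rw [Submodule.coe_add, map_add, map_add]
        map_smul' := fun c z => by
          rw [show ((c • z : ↥(maximalIdeal (HilbLink.R₀ M af))) : HilbLink.R₀ M af) = c • (z : HilbLink.R₀ M af) from rfl,
            map_smul, map_smul, RingHom.id_apply] }
    have h0 : LinearMap.ker π ≤ LinearMap.ker l₀ := fun z hz => by
      have h1 : z.1 ∈ maximalIdeal (HilbLink.R₀ M af) ^ 2 := (Ideal.toCotangent_eq_zero _ z).1 hz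
      show sndL k (φ.1 z.1) = 0
      rw [pow_two] at h1
      refine Submodule.mul_induction_on h1 (fun p hp q hq => ?_) fun p q hp hq => by rw [map_add, map_add, hp, hq, add_zero]
      rw [map_mul]
      show TrivSqZeroExt.snd ((show DualNumber k from φ.1 p) * (show DualNumber k from φ.1 q)) = 0
      rw [TrivSqZeroExt.snd_mul, hfst φ p hp, hfst φ q hq]
      simp
    refine ⟨((LinearMap.ker π).liftQ l₀ h0).comp (π.quotKerEquivOfSurjective hπ).symm.toLinearMap, fun z => ?_⟩
    show (LinearMap.ker π).liftQ l₀ h0 ((π.quotKerEquivOfSurjective hπ).symm (π z)) = _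
    rw [show (π.quotKerEquivOfSurjective hπ).symm (π z) = Submodule.Quotient.mk z from
      (LinearEquiv.symm_apply_eq _).2 rfl]
    rfl
  choose L hL using hl
  have Lext : ∀ l l' : Module.Dual k (CotangentSpace (HilbLink.R₀ M af)), (∀ z, l (π z) = l' (π z)) → l = l' :=
    fun l l' h => LinearMap.ext fun v => by obtain ⟨z, rfl⟩ := hπ v; exact h z
  refine ⟨fun D => L (ψ D), ⟨fun D D' h => ?_, fun l => ?_⟩, fun D D' D'' h => ?_, fun c D D' h => ?_⟩
  · refine mor1_injective (x := x) ?_
    rw [← hψ D, ← hψ D']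
    refine congrArg (fun φ => (Over.mk x ◁ HilbLink.toH M af φ).left ≫ υ.left) (Subtype.ext (AlgHom.ext fun r => ?_))
    have hm : r - algebraMap k _ (HilbLink.res M af r) ∈ maximalIdeal (HilbLink.R₀ M af) := by
      rw [← hker, RingHom.mem_ker, map_sub, AlgHom.commutes]
      exact sub_self _
    have e1 : sndL k ((ψ D).1 (r - algebraMap k _ (HilbLink.res M af r))) =
        sndL k ((ψ D').1 (r - algebraMap k _ (HilbLink.res M af r))) := by
      rw [← hL (ψ D) ⟨_, hm⟩, ← hL (ψ D') ⟨_, hm⟩]
      exact DFunLike.congr_fun h _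
    rw [map_sub, map_sub, map_sub, map_sub, AlgHom.commutes, AlgHom.commutes, sub_left_inj] at e1
    exact TrivSqZeroExt.ext ((DFunLike.congr_fun (ψ D).2 r).trans (DFunLike.congr_fun (ψ D').2 r).symm) e1
  · let lt : HilbLink.R₀ M af →ₗ[k] k :=
      { toFun := fun r => l (π ⟨r - algebraMap k _ (HilbLink.res M af r), by
          rw [← hker, RingHom.mem_ker, map_sub, AlgHom.commutes]; exact sub_self _⟩)
        map_add' := fun r r' => by
          rw [← map_add l, ← map_add π]
          exact congrArg (fun z => l (π z)) (Subtype.ext (by simp only [map_add, Submodule.coe_add]; ring))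
        map_smul' := fun c r => by
          rw [RingHom.id_apply, ← map_smul l, ← map_smul π]
          refine congrArg (fun z => l (π z)) (Subtype.ext ?_)
          show c • r - algebraMap k _ (HilbLink.res M af (c • r)) = c • (r - algebraMap k _ (HilbLink.res M af r))
          rw [map_smul, smul_eq_mul, map_mul, smul_sub, ← Algebra.smul_def] }
    have hmul : ∀ r r', lt (r * r') = HilbLink.res M af r * lt r' + HilbLink.res M af r' * lt r := by
      intro r r'
      show l (π _) = HilbLink.res M af r • l (π _) + HilbLink.res M af r' • l (π _)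
      rw [← map_smul l, ← map_smul l, ← map_add l, ← map_smul π, ← map_smul π, ← map_add π, ← sub_eq_zero,
        ← map_sub l, ← map_sub π]
      refine (congrArg l ?_).trans (map_zero l)
      refine (Ideal.toCotangent_eq_zero _ _).2 ?_
      have hm : ∀ r, r - algebraMap k _ (HilbLink.res M af r) ∈ maximalIdeal (HilbLink.R₀ M af) := fun r => by
        rw [← hker, RingHom.mem_ker, map_sub, AlgHom.commutes]; exact sub_self _
      have := Ideal.mul_mem_mul (hm r) (hm r')
      rw [← pow_two] at this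
      refine (congrArg (· ∈ maximalIdeal (HilbLink.R₀ M af) ^ 2) ?_).mp this
      let ρ := HilbLink.res M af
      show (r - algebraMap k _ (ρ r)) * (r' - algebraMap k _ (ρ r')) =
        (r * r' - algebraMap k _ (ρ (r * r'))) -
          (ρ r • (r' - algebraMap k _ (ρ r')) + ρ r' • (r - algebraMap k _ (ρ r)))
      rw [Algebra.smul_def, Algebra.smul_def, map_mul ρ, map_mul]
      ring
    have h1 : lt 1 = 0 := by
      have := hmul 1 1
      rw [one_mul, map_one (HilbLink.res M af), one_mul] at this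
      exact left_eq_add.1 this
    let φ : HilbLink.R₀ M af →ₐ[k] Art.dual k k :=
      { toFun := fun r => (HilbLink.res M af r, lt r)
        map_one' := TrivSqZeroExt.ext (map_one (HilbLink.res M af)) h1
        map_mul' := fun r r' => TrivSqZeroExt.ext (map_mul (HilbLink.res M af) r r') (by
          refine (hmul r r').trans ?_
          show _ = HilbLink.res M af r • lt r' + MulOpposite.op (HilbLink.res M af r') • lt r
          rw [op_smul_eq_smul]
          rfl)
        map_zero' := TrivSqZeroExt.ext (map_zero (HilbLink.res M af)) (map_zero lt)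
        map_add' := fun r r' => TrivSqZeroExt.ext (map_add (HilbLink.res M af) r r') (map_add lt r r')
        commutes' := fun c => TrivSqZeroExt.ext ((HilbLink.res M af).commutes c) (by
          show lt (algebraMap k _ c) = 0
          rw [Algebra.algebraMap_eq_smul_one, map_smul, h1, smul_zero]) }
    let Φ : HomSet (HilbLink.R₀ M af) (HilbLink.res M af) (Art.dual k k) := ⟨φ, AlgHom.ext fun r => rfl⟩
    have hy : ((Over.mk x ◁ HilbLink.toH M af Φ).left ≫ υ.left) ≫ y = pullback.fst x (specOver (Art.dual k k)) ≫ x := by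
      rw [Category.assoc]
      exact (congrArg ((Over.mk x ◁ HilbLink.toH M af Φ).left ≫ ·) (Over.w υ)).trans
        (Over.w (Over.mk x ◁ HilbLink.toH M af Φ))
    have hi : XAincl x (Art.dual k k) ≫ (Over.mk x ◁ HilbLink.toH M af Φ).left ≫ υ.left = f := by
      haveI : IsIso (pullback.fst x (𝟙 (Art.specPt k))) := inferInstance
      rw [← cancel_epi (pullback.fst x (𝟙 (Art.specPt k)))]
      refine Eq.trans ?_ ((congrArg (fun a => ((Over.mk x ◁ a) ≫ υ).left) (HilbLink.resPt_toH M af Φ)).trans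
        (congrArg Over.Hom.left haf))
      rw [MonoidalCategory.whiskerLeft_comp, Over.comp_left, Over.comp_left, whiskerLeft_resPt]
      simp only [Category.assoc]
    obtain ⟨D, hD⟩ := mor1_surjective hf _ hy hi
    refine ⟨D, Lext _ _ fun z => ?_⟩
    rw [hL, hom_unique M υ hM af (ψ D) Φ ((hψ D).trans hD)]
    show l (π _) = _
    refine congrArg (fun z => l (π z)) (Subtype.ext ?_)
    show z.1 - algebraMap k _ (HilbLink.res M af z.1) = z.1
    rw [RingHom.mem_ker.1 (hker.symm ▸ z.2 : z.1 ∈ RingHom.ker (HilbLink.res M af)), map_zero, sub_zero]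
  · let e : Fin 2 → Art.dual2 k k := eps2 k
    have he : ∀ i j, e i * e j = 0 := eps2_mul
    let DD : Fin 2 → FDer y f := ![D, D']
    obtain ⟨Ψ, hΨ⟩ := exists_hom M υ hM hf af haf _ (mor_over x _ e DD he hf) (incl_mor _ e DD he)
    obtain ⟨p10, p11, p20, p21, q0, q1⟩ := pr_eps2 (k := k)
    have hmap : ∀ (g : Art.dual2 k k ⟶ Art.dual k k) (E : FDer y f),
        (∀ U a, cc x (Art.dual k k) _ (g (e 0)) * pf x _ _ (D.D U a) +
          cc x (Art.dual k k) _ (g (e 1)) * pf x _ _ (D'.D U a) =
            cc x (Art.dual k k) (pullback.fst x (specOver _) ⁻¹ᵁ f ⁻¹ᵁ U) deps * pf x _ _ (E.D U a)) →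
        HomSet.map g Ψ = ψ E := by
      intro g E hE
      refine hom_unique M υ hM af _ _ ?_
      have hz : ∀ i j, g (e i) * g (e j) = 0 := fun i j => by
        rw [← map_mul g.toAlgHom, he, map_zero]
      rw [map_hom, hΨ, hψ, XAmap_mor g e DD he (fun j => g (e j)) (fun _ => rfl) hz]
      refine mor_congr fun U a => ?_
      simp only [val, Fin.sum_univ_two, Fin.sum_univ_one]
      exact congrArg _ (hE U a)
    have h1 : HomSet.map pr₁ Ψ = ψ D := hmap _ _ fun U a => by rw [p10, p11, map_zero, zero_mul, add_zero]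
    have h2 : HomSet.map pr₂ Ψ = ψ D' := hmap _ _ fun U a => by rw [p20, p21, map_zero, zero_mul, zero_add]
    have h3 : HomSet.map plus Ψ = ψ D'' := hmap _ _ fun U a => by
      rw [q0, q1, ← mul_add, ← map_add, h]
    refine Lext _ _ fun z => ?_
    rw [LinearMap.add_apply, hL, hL, hL, ← h1, ← h2, ← h3]
    rfl
  · have hh : HomSet.map (scale c) (ψ D) = ψ D' := by
      refine hom_unique M υ hM af _ _ ?_
      have hz : ∀ i j : Fin 1, (algebraMap k (Art.dual k k) c * deps) * (algebraMap k (Art.dual k k) c * deps) = 0 :=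
        fun _ _ => by rw [mul_mul_mul_comm, deps_mul_deps, mul_zero]
      rw [map_hom, hψ, hψ, mor1, XAmap_mor (scale c) (eps1 k) (fun _ => D) eps1_mul
        (fun _ => algebraMap k (Art.dual k k) c * deps) (fun _ => TrivSqZeroExt.ext (by
          show (0 : k) = _
          rw [TrivSqZeroExt.fst_mul]
          exact (mul_zero _).symm) (by
          show c • (1 : k) = _
          rw [TrivSqZeroExt.snd_mul]
          show c • (1 : k) = c • (1 : k) + MulOpposite.op (0 : k) • _
          rw [MulOpposite.op_zero, zero_smul, add_zero])) hz]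
      refine mor_congr fun U a => ?_
      simp only [val, Fin.sum_univ_one]
      refine congrArg _ ?_
      rw [h, map_mul, map_mul, cc_algebraMap]
      ring
    refine Lext _ _ fun z => ?_
    rw [LinearMap.smul_apply, hL, hL, ← hh]
    rfl

end Classify

/-- The dimension of the tangent space at a rational point of a scheme of morphisms. -/
theorem finrank_cotangentSpace [X.Over (Spec (CommRingCat.of k))] [QuasiSeparated y] (hx : X ↘ Spec (CommRingCat.of k) = x)
    (hf : f ≫ y = x) (M : Over (Art.specPt k)) (υ : Over.mk x ⊗ M ⟶ Over.mk y)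
    (hM : ∀ (T : Over (Art.specPt k)) (φ : Over.mk x ⊗ T ⟶ Over.mk y), ∃! a : T ⟶ M, (Over.mk x ◁ a) ≫ υ = φ)
    (af : HilbLink.pt (k := k) ⟶ M)
    (haf : (Over.mk x ◁ af) ≫ υ = (ρ_ (Over.mk x)).hom ≫ (Over.homMk f hf : Over.mk x ⟶ Over.mk y))
    [DCoh.HasSheafHom ((Scheme.Modules.pullback f).obj (Omega.sheaf y))] :
    Module.finrank (ResidueField (HilbLink.R₀ M af)) (CotangentSpace (HilbLink.R₀ M af)) =
      Module.finrank k (Coh.HH X
        ((DCoh.sheafHom ((Scheme.Modules.pullback f).obj (Omega.sheaf y))).obj (Coh.structureModule X)) 0) := by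
  subst hx
  letI := HilbLink.alg M af
  obtain ⟨E, hE, hadd, hsmul⟩ := exists_equiv M υ hM hf af haf
  let e : ((Scheme.Modules.pullback f).obj (Omega.sheaf y) ⟶ Coh.structureModule X) ≃ₗ[k]
      Module.Dual k (CotangentSpace (HilbLink.R₀ M af)) :=
    LinearEquiv.ofBijective
      { toFun := fun β => E (toFDer y f β)
        map_add' := fun β γ => hadd _ _ _ (toFDer_add y f β γ)
        map_smul' := fun c β => hsmul c _ _ fun U a => by
          rw [toFDer_smul]
          refine congrArg (· * _) ?_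
          rfl }
      (hE.comp ⟨toFDer_injective y f, toFDer_surjective y f⟩)
  obtain ⟨e'⟩ := NormalLib.nonempty_hom_linearEquiv_HH (A := k) ((Scheme.Modules.pullback f).obj (Omega.sheaf y))
    (Coh.structureModule X)
  rw [← e'.finrank_eq, e.finrank_eq, Subspace.dual_finrank_eq]
  have hb : Function.Bijective (algebraMap k (ResidueField (HilbLink.R₀ M af))) := by
    refine ⟨(algebraMap k (ResidueField (HilbLink.R₀ M af))).injective, fun v => ?_⟩
    obtain ⟨r, rfl⟩ := Ideal.Quotient.mk_surjective v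
    refine ⟨HilbLink.res M af r, ?_⟩
    refine ((IsScalarTower.algebraMap_apply k (HilbLink.R₀ M af) _ _).trans ?_)
    refine Ideal.Quotient.eq.2 ?_
    rw [← ker_res (HilbLink.res M af), RingHom.mem_ker, map_sub, AlgHom.commutes]
    exact sub_self _
  refine congrArg Cardinal.toNat (rank_eq_of_equiv_equiv (algebraMap k _) (AddEquiv.refl _) hb fun c v => ?_).symm
  obtain ⟨z, rfl⟩ := Ideal.toCotangent_surjective _ v
  show c • (maximalIdeal (HilbLink.R₀ M af)).toCotangent z = _
  rw [IsScalarTower.algebraMap_apply k (HilbLink.R₀ M af) (ResidueField (HilbLink.R₀ M af)),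
    ← IsScalarTower.algebraMap_smul (R := k) (HilbLink.R₀ M af) c]
  rfl

end Groth.Agent.HomTan29
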